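import Mathlib.CategoryTheory.Sites.CoverLifting
import Mathlib.CategoryTheory.Sites.Pullback
import Mathlib.CategoryTheory.Sites.Over
import Mathlib.CategoryTheory.Adjunction.Triple
import Mathlib.CategoryTheory.Functor.KanExtension.Adjunction
import Mathlib.CategoryTheory.Limits.Types.Limits
import Mathlib.Algebra.Category.Grp.Limits

/-! # Restriction to a subobject of the final object -/

set_option autoImplicit false

universe w v u u'

open CategoryTheory CategoryTheory.Limits Opposite

namespace GrothLib.SubTerm25

variable {C : Type u} [Category.{v} C] (J : GrothendieckTopology C) (U : C)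

theorem full_forget (hU : ∀ V : C, Subsingleton (V ⟶ U)) : (Over.forget U).Full where
  map_surjective {X Y} f := ⟨Over.homMk f (Subsingleton.elim (h := hU X.left) _ _), rfl⟩

theorem isIso_unit (A : Type u') [Category.{w} A] (hU : ∀ V : C, Subsingleton (V ⟶ U))
    [((Over.forget U).sheafPushforwardContinuous A (J.over U) J).IsRightAdjoint]
    [∀ P : (Over U)ᵒᵖ ⥤ A, (Over.forget U).op.HasPointwiseRightKanExtension P] :
    IsIso ((Over.forget U).sheafAdjunctionContinuous A (J.over U) J).unit := by
  let u := Over.forget U
  have := full_forget U hU
  let adj₁ := u.sheafAdjunctionContinuous A (J.over U) J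
  let adj₂ := u.sheafAdjunctionCocontinuous A (J.over U) J
  let t : Adjunction.Triple (u.sheafPullback A (J.over U) J) (u.sheafPushforwardContinuous A (J.over U) J)
      (u.sheafPushforwardCocontinuous A (J.over U) J) := ⟨adj₁, adj₂⟩
  have hc : IsIso adj₂.counit := by
    rw [NatTrans.isIso_iff_isIso_app]
    intro G
    have : IsIso ((sheafToPresheaf (J.over U) A).map (adj₂.counit.app G)) := by
      change IsIso ((adj₂.counit.app G).hom)
      rw [Functor.sheafAdjunctionCocontinuous_counit_app_hom, Functor.ranAdjunction_counit]
      have : u.op.Faithful := inferInstance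
      have : u.op.Full := inferInstance
      rw [NatTrans.isIso_iff_isIso_app]
      intro X
      exact (u.op.isPointwiseRightKanExtensionRanCounit G.obj (u.op.obj X)).isIso_hom_app
    exact isIso_of_reflects_iso _ (sheafToPresheaf (J.over U) A)
  exact t.isIso_unit_iff_isIso_counit.2 hc

end GrothLib.SubTerm25
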